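import Cfsg.Agent.H39.HN.Xb2.Data

/-!
Steps of a derivation (generated data).
-/

set_option autoImplicit false
set_option maxRecDepth 100000
set_option linter.all false
set_option Elab.async false

namespace H39
namespace HN
namespace Xb2

open H93.CosetI

noncomputable section

def st4 : List Step := [(10,[49,1818,1960,1863,1980,1982,1984,1986,1988,1990,1992,1994,1996,1998],[1329,52,1331,56,1333]),(13,[49,1818,1960,1863,1980,1982,1984,1986,1988,1990,1992,1994,1996],[1329,52,1331,56,1333,60,62,64]),(0,[],[]),(0,[],[]),(0,[],[]),(0,[],[]),(0,[],[]),(0,[],[]),(0,[],[]),(0,[],[]),(0,[],[]),(0,[],[]),(0,[],[]),(0,[],[]),(7,[1814,1816,1872,1972,1974,1976,1978,2004,2006,2008,2010,2012,2014,2016,2018,2020,2022,2024,2026],[1329,52,1331,56]),(0,[],[]),(0,[],[]),(4,[52,54,1971,2030,2032],[51,49,47,1648,1943,1808]),(0,[],[]),(0,[],[]),(0,[],[]),(0,[],[]),(0,[],[]),(0,[],[]),(0,[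],[]),(21,[52,54,56,58,2001,1999,2036,2038,2040,2042,2044,2046,2048],[51,49,47,45,43,1768,1713,1743,1945,1858,1963,1980]),(0,[],[]),(0,[],[]),(0,[],[]),(3,[1971,2056],[56,2029,2027]),(0,[],[]),(0,[],[]),(0,[],[]),(0,[],[]),(0,[],[]),(0,[],[]),(0,[],[]),(0,[],[]),(0,[],[]),(0,[],[]),(0,[],[]),(0,[],[]),(0,[],[]),(0,[],[]),(0,[],[]),(0,[],[]),(0,[],[]),(0,[],[]),(0,[],[]),(0,[],[]),(0,[],[]),(0,[],[]),(0,[],[]),(0,[],[]),(0,[],[]),(0,[],[]),(0,[],[]),(0,[],[]),(0,[],[]),(0,[],[]),(0,[],[]),(0,[],[]),(0,[],[]),(0,[],[]),(0,[],[]),(0,[],[]),(0,[],[]),(25,[1971,2056,2060,2062,2064,2066,2068,2070,2072,2074,2076,2078,2080,2082,2084,2086,2088,2090,2092,2094,2096,2098,2100,2102,2104,2106,2108,2110,2112,2114,2116,2118,2120,2122,2124,2126,2128,2130,2132],[56,1333,60,62,64,1335,68,70]),(0,[],[]),(0,[],[]),(0,[],[]),(0,[],[]),(0,[],[]),(0,[],[]),(0,[],[]),(0,[],[]),(2,[1964],[2035])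,(1,[2153],[]),(1,[2155,2034],[]),(1,[2155,2033],[]),(1,[1967,2158],[]),(1,[2161],[]),(1,[2163,2031],[]),(1,[2163,2052],[]),(2,[1982],[2051]),(1,[2169],[]),(1,[2171,2049],[]),(1,[1985,2172],[]),(1,[2175],[]),(1,[2177,2047],[]),(2,[1986],[2178]),(1,[2181],[]),(1,[2183,2045],[]),(1,[1989,2184],[]),(1,[2187],[]),(1,[2189,2043],[]),(2,[1990],[2190]),(1,[2193],[]),(1,[2195,2041],[]),(1,[1993,2196],[]),(1,[2199],[]),(1,[2201,2144],[]),(2,[2202],[]),(2,[2138],[]),(0,[],[]),(0,[],[]),(0,[],[]),(5,[65,63,61,1332,57,1971,2165,2166,2054,2136,2138,2140,2142,2208,2210,2212],[1335,68,70,1337]),(0,[],[]),(0,[],[]),(0,[],[]),(0,[],[]),(0,[],[]),(0,[],[]),(0,[],[]),(16,[65,63,61,1332,2029,2027,2059,2057,2165,1967,2216,2218,2220,2222,2224,2226,2228],[1335,68,70,1337,74]),(0,[],[]),(0,[],[]),(0,[],[]),(0,[],[]),(0,[],[]),(0,[],[]),(0,[],[]),(0,[],[]),(10,[68,70,72,74,2231,2234,2236,2238,2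240,2242,2244,2246],[67,2003,1997,1995,2205,2146,2232]),(0,[],[]),(0,[],[]),(0,[],[]),(0,[],[]),(20,[68,70,72,74,2231,2234,2250,2252,2254,2256],[67,2003,1997,1995,2205,2146,2232,2249,2247,2245,2243,2241,2239]),(0,[],[]),(0,[],[]),(0,[],[]),(0,[],[]),(0,[],[]),(0,[],[]),(3,[74,2231,2229],[2215,2213,2211]),(1,[2272],[]),(1,[2275,2227],[]),(1,[2208,2276],[]),(1,[2275,2228],[]),(1,[2279],[]),(1,[2283,2225],[]),(1,[2142,2284],[]),(1,[2287],[]),(1,[2289,2223],[]),(1,[2140,2290],[]),(1,[2293],[]),(1,[2295,2221],[]),(1,[2138,2296],[]),(1,[2299],[]),(1,[2301,2219],[]),(0,[],[]),(0,[],[]),(0,[],[]),(0,[],[]),(0,[],[]),(0,[],[]),(0,[],[]),(0,[],[]),(6,[74,76,2148,2150,2306,2308,2310,2312,2314,2316,2318],[73,2135,2133,2131]),(0,[],[]),(0,[],[]),(0,[],[]),(0,[],[]),(0,[],[]),(0,[],[]),(0,[],[]),(0,[],[]),(0,[],[]),(0,[],[]),(0,[],[]),(0,[],[]),(0,[],[]),(0,[],[]),(0,[],[]),(0,[],[])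,(0,[],[]),(0,[],[]),(24,[74,2231,2281,2330,2332,2334,2340,2342,2344,2346,2348,2350,2352,2354,2356],[73,2135,2133,2131,2321,2319,2317,2315,2313,2336]),(0,[],[]),(0,[],[]),(0,[],[]),(0,[],[]),(0,[],[]),(0,[],[]),(0,[],[]),(0,[],[]),(0,[],[]),(6,[2231,2234,2250,2360,2362,2364,2366,2368,2370,2372,2374,2376],[1339,78,1341]),(0,[],[]),(0,[],[]),(0,[],[]),(0,[],[]),(0,[],[]),(0,[],[]),(0,[],[]),(0,[],[]),(0,[],[]),(0,[],[]),(0,[],[]),(8,[75,2215,2260,2262,2304,2338,2380,2382,2384,2386,2388,2390,2392,2394,2396,2398,2400],[1339,78]),(0,[],[]),(0,[],[]),(0,[],[]),(0,[],[]),(0,[],[]),(0,[],[]),(0,[],[]),(0,[],[]),(0,[],[]),(0,[],[]),(0,[],[]),(0,[],[]),(7,[2231,2281,2210,2322,2324,2326,2328,2404,2406,2408,2410,2412,2414,2416,2418,2420,2422,2424,2426],[1339,78,1341,2379]),(0,[],[]),(3,[2148,2264,2430],[78,2403]),(0,[],[]),(0,[],[]),(0,[],[]),(0,[],[]),(12,[2148,2264,2266,2268,2270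,2434,2436,2438,2440],[77,75,73,2135,2133,2131,2321,2319,2317,2315,2313,2311]),(0,[],[]),(0,[],[]),(0,[],[]),(3,[82,84],[2379,2429,2427]),(0,[],[]),(0,[],[]),(0,[],[]),(0,[],[]),(0,[],[]),(0,[],[]),(0,[],[]),(0,[],[]),(0,[],[]),(0,[],[]),(0,[],[]),(0,[],[]),(0,[],[]),(0,[],[]),(8,[2379,2429,2452,2454,2456,2458,2460,2462,2464,2466,2468,2470,2472,2474,2476,2478],[81,2403,2433]),(0,[],[]),(0,[],[]),(0,[],[]),(0,[],[]),(0,[],[]),(0,[],[]),(0,[],[]),(0,[],[]),(0,[],[])]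

theorem ok4 : data.stepsOK st4 1000 = true := by decide +kernel

def st5 : List Step := [(0,[],[]),(0,[],[]),(0,[],[]),(0,[],[]),(5,[82,84,2450,2482,2484,2486,2488,2490,2492,2494,2496,2498,2500,2502,2504,2506],[81,2403,2433,2481]),(0,[],[]),(0,[],[]),(0,[],[]),(0,[],[]),(15,[2379,2429,2427,2482,2512,2514,2516],[81,2403,2433,2481,2509,2507,2505,2503,2501,2499,2497,2495,2493,2491,2489]),(0,[],[]),(0,[],[]),(0,[],[]),(0,[],[]),(0,[],[]),(0,[],[]),(0,[],[]),(0,[],[]),(0,[],[]),(0,[],[]),(0,[],[]),(0,[],[]),(0,[],[]),(0,[],[]),(0,[],[]),(0,[],[]),(0,[],[]),(0,[],[]),(0,[],[]),(0,[],[]),(0,[],[]),(0,[],[]),(0,[],[]),(0,[],[]),(0,[],[]),(0,[],[]),(0,[],[]),(0,[],[]),(0,[],[]),(0,[],[]),(0,[],[]),(0,[],[]),(0,[],[]),(0,[],[]),(0,[],[]),(0,[],[]),(0,[],[]),(0,[],[]),(25,[84,2450,2482,2484,2486,2519,2524,2526,2528,2530,2532,2534,2536,2538,2540,2542,2544,2546,2548,2550,2552,2554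,2556,2558,2560,2562,2564,2566,2568,2570,2572,2574,2576,2578,2580,2582,2584,2586,2588,2590,2592,2594],[83,81,2403,2433,2431]),(0,[],[]),(0,[],[]),(0,[],[]),(0,[],[]),(0,[],[]),(0,[],[]),(0,[],[]),(0,[],[]),(8,[85,83,1340,79,1338,2231,2234,2236,2259,2598,2600,2602,2604,2606,2608,2610,2612],[1343,2510]),(3,[88,90,92],[2510,2615]),(2,[2208,2330],[]),(1,[2618],[]),(1,[2621,2332],[]),(1,[2142,2622],[]),(1,[2625],[]),(1,[2627,2334],[]),(1,[2140,2628],[]),(1,[2631],[]),(1,[2633,2340],[]),(1,[2207,2634],[]),(1,[2637],[]),(1,[2639,2342],[]),(1,[2303,2640],[]),(1,[2643],[]),(1,[2645,2344],[]),(2,[2646],[]),(2,[2266],[2597]),(1,[2651],[]),(1,[2653,2596],[]),(2,[2270],[]),(3,[2310,2336,2359,2357],[2443]),(2,[2348],[]),(4,[2347,2648,2217,2156,1895,1622,1624,1626,1628],[2661,2350]),(2,[2436],[]),(4,[2435,2656,2269,2654,2265,2150,2306,2308,2443],[2665,2438]),(21,[2435,2656,2444,2446,2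448],[2665,2438,2667,2659,2355,2353,2663,1630,1897,1882,1573,1571,1569,1567,1565,561,559,1294,747,1345]),(2,[2446],[]),(0,[],[]),(0,[],[]),(0,[],[]),(5,[88,90,92,94,96,2520,2672,2674,2676],[87,85,83,81,2403,2433,2431,2655,2268,2444,2671]),(0,[],[]),(0,[],[]),(15,[2510,2615,2617,94,2680,2682],[87,85,83,81,2403,2433,2431,2655,2268,2444,2671,2679,2677,2675,2673,2522]),(16,[88,90,92,94,2680,2682,2684,2523,2672],[87,85,83,81,79,2148,2264,2655,2268,2444,2671,2448,2668,126]),(1,[2686],[]),(1,[2689,2673],[]),(1,[1346,2690],[]),(1,[2693],[]),(1,[2695,2521],[]),(1,[131,2696],[]),(1,[2698],[]),(1,[2701,132],[]),(1,[99,2702],[]),(1,[2705],[]),(1,[2707,134],[]),(1,[101,2708],[]),(1,[2711],[]),(1,[2713,106],[]),(1,[103,2714],[]),(1,[2716],[]),(1,[2719,103],[])]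

theorem ok5 : data.stepsOK st5 1250 = true := by decide +kernel

end

end Xb2
end HN
end H39
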