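import Cfsg.Agent.H39.HN.Xb2.Data

/-!
Steps of a derivation (generated data).
-/

set_option autoImplicit false
set_option maxRecDepth 100000
set_option linter.all false
set_option Elab.async false

namespace H39
namespace HN
namespace Xb2

open H93.CosetI

noncomputable section

def st0 : List Step := [(0,[],[]),(0,[],[]),(0,[],[]),(0,[],[]),(0,[],[]),(0,[],[]),(0,[],[]),(0,[],[]),(0,[],[]),(0,[],[]),(0,[],[]),(0,[],[]),(0,[],[]),(0,[],[]),(0,[],[]),(0,[],[]),(0,[],[]),(0,[],[]),(0,[],[]),(0,[],[]),(0,[],[]),(0,[],[]),(0,[],[]),(0,[],[]),(0,[],[]),(0,[],[]),(0,[],[]),(0,[],[]),(0,[],[]),(0,[],[]),(0,[],[]),(0,[],[]),(0,[],[]),(0,[],[]),(0,[],[]),(0,[],[]),(0,[],[]),(0,[],[]),(0,[],[]),(0,[],[]),(0,[],[]),(0,[],[]),(0,[],[]),(0,[],[]),(0,[],[]),(0,[],[]),(0,[],[]),(0,[],[]),(0,[],[]),(0,[],[]),(0,[],[]),(0,[],[]),(0,[],[]),(2,[104],[]),(0,[],[]),(0,[],[]),(0,[],[]),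(0,[],[]),(3,[108,110,112,114],[0]),(0,[],[]),(0,[],[]),(0,[],[]),(0,[],[]),(0,[],[]),(0,[],[]),(0,[],[]),(0,[],[]),(4,[0,2,118,120,122,124,126,128,130,132],[107]),(0,[],[]),(0,[],[]),(0,[],[]),(0,[],[]),(0,[],[]),(0,[],[]),(0,[],[]),(0,[],[]),(0,[],[]),(0,[],[]),(0,[],[]),(0,[],[]),(0,[],[]),(0,[],[]),(0,[],[]),(0,[],[]),(0,[],[]),(0,[],[]),(0,[],[]),(0,[],[]),(0,[],[]),(0,[],[]),(0,[],[]),(0,[],[]),(0,[],[]),(0,[],[]),(0,[],[]),(0,[],[]),(0,[],[]),(0,[],[]),(0,[],[]),(0,[],[]),(0,[],[]),(0,[],[]),(0,[],[]),(0,[],[]),(0,[],[]),(0,[],[]),(0,[],[]),(0,[],[]),(0,[],[]),(0,[],[]),(0,[],[]),(0,[],[]),(0,[],[]),(0,[],[]),(0,[],[]),(0,[],[]),(0,[],[]),(0,[],[]),(0,[],[]),(0,[],[]),(0,[],[]),(0,[],[]),(0,[],[]),(0,[],[]),(0,[],[]),(0,[],[]),(0,[],[]),(0,[],[]),(0,[],[]),(0,[],[]),(0,[],[]),(25,[108,110,150,176,178,180,182,184,186,188,190,192,194,196,198,200,202,204,206,208,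210,212,214,216,218,220,222,224,226,228,230,232,234,236,238,240,242,244,246,248,250,252,254,256,258,260],[0]),(2,[2],[263]),(1,[265],[]),(1,[267,262],[]),(1,[267,261],[]),(1,[5,270],[]),(1,[273],[]),(1,[275,259],[]),(0,[],[]),(0,[],[]),(0,[],[]),(0,[],[]),(0,[],[]),(4,[117,136,138,140,278,280,282,284,286],[269,4]),(0,[],[]),(0,[],[]),(0,[],[]),(0,[],[]),(0,[],[]),(0,[],[]),(0,[],[]),(0,[],[]),(0,[],[]),(0,[],[]),(6,[1,104,290,292,294,296,298,300,302,304,306,308],[269,4,289]),(0,[],[]),(0,[],[]),(0,[],[]),(0,[],[]),(0,[],[]),(0,[],[]),(0,[],[]),(0,[],[]),(0,[],[]),(0,[],[]),(8,[117,115,142,144,154,156,312,314,316,318,320,322,324,326,328,330],[269,4,276]),(0,[],[]),(0,[],[]),(0,[],[]),(0,[],[]),(0,[],[]),(0,[],[]),(0,[],[]),(10,[117,115,142,144,146,148,152,334,336,338,340,342,344,346],[269,4,289,311,309]),(0,[],[]),(0,[],[]),(0,[],[]),(0,[],[]),(0,[],[]),(0,[],[]),(0,[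],[]),(0,[],[]),(0,[],[]),(0,[],[]),(5,[1,108,110,150,176,178,350,352,354,356,358,360,362,364,366,368],[269,4,276,333]),(0,[],[]),(0,[],[]),(0,[],[]),(0,[],[]),(0,[],[]),(0,[],[]),(0,[],[]),(0,[],[]),(0,[],[]),(0,[],[]),(0,[],[]),(0,[],[]),(0,[],[]),(0,[],[]),(0,[],[]),(7,[1,108,110,150,176,374,376,378,380,382,384,386,388,390,392,394,396,398,400],[269,4,289,311]),(0,[],[]),(0,[],[]),(0,[],[]),(0,[],[]),(0,[],[]),(0,[],[]),(0,[],[]),(0,[],[]),(19,[117,115,113,150,176,374,404,406,408,410,412,414,416,418],[269,4,289,311,403,401,399,397,395]),(0,[],[]),(3,[118,422],[4,276,257]),(0,[],[]),(0,[],[]),(0,[],[]),(0,[],[]),(0,[],[]),(0,[],[]),(0,[],[]),(0,[],[]),(0,[],[]),(0,[],[]),(0,[],[]),(0,[],[]),(0,[],[]),(0,[],[]),(0,[],[]),(0,[],[]),(0,[],[]),(0,[],[]),(0,[],[]),(0,[],[]),(0,[],[]),(0,[],[]),(0,[],[]),(0,[],[]),(0,[],[]),(0,[],[]),(0,[],[]),(0,[],[]),(0,[],[]),(0,[],[]),(0,[],[]),(0,[],[]),(0,[],[]),(0,[],[]),(0,[],[]),(0,[],[]),(0,[],[])]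

theorem ok0 : data.stepsOK st0 0 = true := by decide +kernel

def st1 : List Step := [(0,[],[]),(0,[],[]),(0,[],[]),(0,[],[]),(0,[],[]),(0,[],[]),(0,[],[]),(0,[],[]),(0,[],[]),(25,[118,422,428,444,446,448,450,452,454,456,458,460,462,464,466,468,470,472,474,476,478,480,482,484,486,488,490,492,494,496,498,500,502,504,506,508,510,512,514,516],[4,289,311,403,401,399,397]),(2,[6],[289]),(1,[521],[]),(1,[523,288],[]),(1,[523,287],[]),(1,[159,526],[]),(1,[523,311],[]),(1,[9,530],[]),(1,[529],[]),(1,[535,285],[]),(1,[533],[]),(1,[539,309],[]),(1,[539,403],[]),(1,[11,542],[]),(1,[545],[]),(1,[547,401],[]),(1,[13,548],[]),(1,[551],[]),(1,[553,399],[]),(0,[],[]),(0,[],[]),(0,[],[]),(0,[],[]),(3,[158,160],[8,10,12]),(0,[],[]),(0,[],[]),(0,[],[]),(0,[],[]),(0,[],[]),(0,[],[]),(0,[],[]),(0,[],[]),(6,[158,426,432,566,568,570,572,574,576,578,580],[7,276,333,371]),(0,[],[]),(0,[],[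]),(0,[],[]),(0,[],[]),(0,[],[]),(0,[],[]),(0,[],[]),(0,[],[]),(5,[158,160,564,14,588,590,592,594,596,598],[7,276,257,255,253,251,249,247,245,243]),(0,[],[]),(0,[],[]),(0,[],[]),(0,[],[]),(0,[],[]),(12,[158,160,162,164,602,604,606,608,610],[7,276,333,371,583,581,579,577,575,573,571,569]),(0,[],[]),(15,[8,10,12,14,16,18,614],[7,276,257,255,253,251,249,247,245,243,601,599,597,595,593]),(0,[],[]),(0,[],[]),(0,[],[]),(0,[],[]),(0,[],[]),(0,[],[]),(0,[],[]),(0,[],[]),(2,[430],[540]),(1,[634],[]),(1,[637,431],[]),(0,[],[]),(0,[],[]),(0,[],[]),(0,[],[]),(0,[],[]),(0,[],[]),(0,[],[]),(0,[],[]),(0,[],[]),(0,[],[]),(2,[14],[554]),(1,[661],[]),(1,[663,555],[]),(1,[663,397],[]),(1,[17,666],[]),(1,[669],[]),(1,[671,395],[]),(1,[671,519],[]),(1,[19,674],[]),(1,[677],[]),(1,[679,517],[]),(1,[615,680],[]),(1,[682],[]),(1,[685,615],[]),(1,[685,616],[]),(0,[],[]),(0,[],[]),(0,[],[]),(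0,[],[]),(0,[],[]),(0,[],[]),(0,[],[]),(6,[13,170,172,174,584,586,694,696,698,700,702],[665,16,672,393]),(0,[],[]),(0,[],[]),(0,[],[]),(0,[],[]),(0,[],[]),(0,[],[]),(0,[],[]),(0,[],[]),(0,[],[]),(8,[565,161,426,432,566,568,570,706,708,710,712,714,716,718,720,722],[665,16,18]),(0,[],[]),(0,[],[]),(0,[],[]),(0,[],[]),(0,[],[]),(10,[565,161,426,432,434,436,438,440,442,726,728,730,732,734],[665,16,672,393,705]),(0,[],[]),(0,[],[]),(0,[],[]),(5,[13,11,9,524,5,118,120,166,168,556,558,560,562,738,740,742],[665,16,18,725]),(0,[],[]),(0,[],[]),(0,[],[]),(0,[],[]),(0,[],[]),(0,[],[]),(0,[],[]),(16,[13,11,9,524,276,257,425,423,120,122,746,748,750,752,754,756,758],[665,16,18,725,723]),(0,[],[]),(0,[],[]),(0,[],[]),(0,[],[]),(0,[],[]),(0,[],[]),(0,[],[]),(0,[],[]),(0,[],[]),(0,[],[]),(0,[],[]),(0,[],[]),(0,[],[]),(0,[],[]),(21,[565,162,164,602,604,762,764,766,768,770,772,774,776,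778,780,782,784,786,788],[665,16,672,393,705,737]),(0,[],[]),(0,[],[]),(0,[],[]),(0,[],[]),(0,[],[]),(0,[],[]),(0,[],[]),(0,[],[]),(0,[],[]),(0,[],[]),(0,[],[]),(0,[],[]),(0,[],[]),(0,[],[]),(23,[565,162,632,642,644,646,792,794,796,798,800,802,804,806,808,810,812,814,816,818],[665,16,672,393,391]),(0,[],[]),(0,[],[]),(0,[],[]),(0,[],[]),(0,[],[]),(0,[],[]),(0,[],[]),(0,[],[]),(0,[],[]),(0,[],[]),(0,[],[]),(0,[],[]),(0,[],[]),(0,[],[]),(0,[],[]),(0,[],[]),(0,[],[]),(0,[],[]),(0,[],[]),(0,[],[]),(0,[],[]),(0,[],[]),(0,[],[]),(0,[],[]),(0,[],[]),(0,[],[]),(0,[],[]),(0,[],[]),(0,[],[]),(0,[],[]),(0,[],[]),(0,[],[]),(0,[],[]),(0,[],[]),(0,[],[]),(0,[],[]),(0,[],[]),(0,[],[]),(0,[],[]),(0,[],[]),(25,[13,11,639,349,347,372,822,824,826,828,830,832,834,836,838,840,842,844,846,848,850,852,854,856,858,860,862,864,866,868,870,872,874,876,878,880,882,884,886,888,890,892,894,896,8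98,900],[565]),(0,[],[]),(0,[],[]),(0,[],[]),(0,[],[]),(0,[],[]),(0,[],[]),(0,[],[]),(0,[],[]),(6,[588,618,620,640,906,908,910,912,914,916,918],[15,565,903,901]),(0,[],[]),(0,[],[]),(0,[],[]),(0,[],[]),(0,[],[]),(8,[16,18,20,22,24,622,624,626,628,630,922,924,926,928,930],[15,565,161,536]),(0,[],[]),(0,[],[]),(0,[],[]),(0,[],[]),(0,[],[]),(0,[],[]),(0,[],[]),(0,[],[]),(0,[],[]),(0,[],[]),(10,[16,18,20,22,934,936,938,940,942,944,946,948,950,952],[15,565,903,901,921]),(0,[],[]),(0,[],[]),(0,[],[]),(0,[],[]),(0,[],[]),(0,[],[]),(0,[],[]),(0,[],[]),(0,[],[]),(20,[16,18,20,22,934,936,966,968,970,972],[15,565,903,901,921,955,953,951,949,947,945,943,941]),(0,[],[]),(0,[],[]),(0,[],[]),(0,[],[]),(0,[],[]),(0,[],[]),(0,[],[]),(0,[],[]),(0,[],[]),(0,[],[]),(0,[],[]),(0,[],[])]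

theorem ok1 : data.stepsOK st1 250 = true := by decide +kernel

def st2 : List Step := [(0,[],[]),(0,[],[]),(0,[],[]),(0,[],[]),(21,[16,650,654,976,978,980,982,984,986,988,990,992,994,996,998,1000,1002,1004,1006],[15,565,903,901,921,955]),(0,[],[]),(2,[650],[672]),(1,[1012],[]),(1,[1015,651],[]),(1,[1015,652],[]),(1,[420,1018],[]),(1,[1015,654],[]),(1,[392,1022],[]),(1,[1021],[]),(1,[1027,904],[]),(1,[1025],[]),(1,[1031,976],[]),(1,[1031,656],[]),(1,[390,1034],[]),(1,[1037],[]),(1,[1039,658],[]),(4,[18,20,22,24,26,28,30],[672,393,705,737,791]),(1,[1043],[]),(1,[1045,790],[]),(1,[1045,789],[]),(1,[30,1048],[]),(1,[1051],[]),(1,[1053,787],[]),(1,[28,1054],[]),(1,[1057],[]),(1,[1059,785],[]),(1,[26,1060],[]),(1,[1063],[]),(1,[1065,783],[]),(1,[24,1066],[]),(1,[1069],[]),(1,[1071,781],[]),(1,[935,1072],[]),(1,[1074],[]),(1,[1077,936],[]),(1,[1077,935],[]),(0,[],[]),(0,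[],[]),(0,[],[]),(0,[],[]),(0,[],[]),(0,[],[]),(0,[],[]),(0,[],[]),(0,[],[]),(0,[],[]),(5,[17,588,590,592,594,596,1082,1084,1086,1088,1090,1092,1094,1096,1098,1100],[672,393,391,821]),(0,[],[]),(0,[],[]),(0,[],[]),(0,[],[]),(0,[],[]),(0,[],[]),(0,[],[]),(0,[],[]),(0,[],[]),(0,[],[]),(2,[20],[725]),(1,[1125],[]),(1,[1127,724],[]),(1,[1127,723],[]),(1,[23,1130],[]),(1,[1127,745],[]),(1,[1111,1134],[]),(1,[1133],[]),(1,[1139,721],[]),(1,[1139,761],[]),(1,[1080,1142],[]),(1,[1136],[]),(1,[1147,1112],[]),(1,[1147,1111],[]),(1,[1144],[]),(1,[1153,1078],[]),(1,[1153,779],[]),(1,[1153,1080],[]),(0,[],[]),(0,[],[]),(0,[],[]),(0,[],[]),(4,[687,956,958,962,964,1160,1162,1164,1166],[1129,1151]),(0,[],[]),(0,[],[]),(0,[],[]),(0,[],[]),(0,[],[]),(0,[],[]),(0,[],[]),(6,[19,1017,421,1028,1010,1170,1172,1174,1176,1178,1180,1182],[1129,1151,1169]),(0,[],[]),(0,[],[]),(0,[],[]),(0,[],[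]),(0,[],[]),(0,[],[]),(0,[],[]),(0,[],[]),(0,[],[]),(0,[],[]),(8,[687,688,592,594,1106,1108,1186,1188,1190,1192,1194,1196,1198,1200,1202,1204],[1129,1151,743]),(0,[],[]),(0,[],[]),(0,[],[]),(0,[],[]),(0,[],[]),(0,[],[]),(0,[],[]),(10,[687,688,592,594,596,1082,1104,1208,1210,1212,1214,1216,1218,1220],[1129,1151,1169,1185,1183]),(12,[19,17,664,565,162,632,642,648,690,692],[1129,1151,1169,1185,1183,1181,1179,1177,1175,1173,1171,1011]),(1,[1225],[]),(1,[1227,1029],[]),(0,[],[]),(0,[],[]),(0,[],[]),(0,[],[]),(0,[],[]),(0,[],[]),(0,[],[]),(0,[],[]),(0,[],[]),(0,[],[]),(0,[],[]),(0,[],[]),(0,[],[]),(0,[],[]),(0,[],[]),(0,[],[]),(21,[687,956,960,1230,1232,1234,1236,1238,1240,1242,1244,1246,1248,1250,1252,1254,1256,1258,1260],[1129,1151,1169,1185,1183,1223]),(3,[22,1159,759],[1151,743,741]),(1,[1264],[]),(1,[1267,757],[]),(1,[738,1268],[]),(1,[1267,758],[]),(1,[1271],[]),(1,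[1275,755],[]),(1,[562,1276],[]),(1,[1279],[]),(1,[1281,753],[]),(1,[560,1282],[]),(1,[1285],[]),(1,[1287,751],[]),(1,[558,1288],[]),(1,[1291],[]),(1,[1293,749],[]),(2,[24],[1140]),(1,[1297],[]),(1,[1299,1141],[]),(2,[28],[]),(2,[1046],[]),(4,[31,1302,27,1300,23,1128,19,1017,393,1032,978],[1305]),(1,[1306],[]),(1,[1309,980],[]),(1,[734,1310],[]),(1,[1309,979],[]),(1,[737,1314],[]),(1,[1313],[]),(1,[1319,982],[]),(1,[1317],[]),(1,[1323,1033],[]),(2,[34],[]),(2,[50],[]),(2,[54],[]),(2,[58],[]),(2,[66],[]),(2,[72],[]),(2,[76],[]),(2,[80],[]),(2,[86],[]),(2,[124],[]),(2,[128],[]),(2,[426],[536]),(1,[1348],[]),(1,[1351,427],[]),(1,[1351,432],[]),(1,[932,1354],[]),(1,[1356],[]),(1,[1359,932],[]),(2,[162],[903]),(1,[1363],[]),(1,[1365,902],[]),(1,[1365,901],[]),(1,[165,1368],[]),(1,[1371],[]),(1,[1373,921],[]),(4,[161,1353,1361,566,613],[1367,164,1374,955,1009,1007,1005]),(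1,[1377],[]),(1,[1379,1003],[]),(1,[613,1380],[]),(1,[1383],[]),(1,[1385,1001],[]),(1,[566,1386],[]),(1,[1389],[]),(1,[1391,999],[]),(1,[435,1392],[]),(1,[1395],[]),(1,[1397,997],[]),(2,[1040],[821]),(1,[1401],[]),(1,[1403,820],[]),(1,[1403,1103],[]),(2,[436],[1398]),(1,[1409],[]),(1,[1411,995],[]),(1,[439,1412],[]),(1,[1415],[]),(1,[1417,993],[]),(2,[440],[1418]),(1,[1421],[]),(1,[1423,991],[]),(1,[443,1424],[]),(1,[1427],[]),(1,[1429,989],[]),(2,[726],[1430]),(1,[1433],[]),(1,[1435,987],[]),(1,[729,1436],[]),(1,[1439],[]),(1,[1441,985],[]),(1,[731,1442],[]),(1,[1445],[]),(1,[1447,1321],[]),(2,[738],[]),(2,[592],[]),(2,[1106],[]),(2,[],[1207]),(2,[1148],[1169]),(1,[1459],[]),(1,[1461,1168],[]),(1,[1461,1167],[]),(1,[1115,1464],[]),(1,[1461,1185],[]),(1,[1123,1468],[]),(1,[1467],[]),(1,[1473,1165],[]),(1,[1471],[]),(1,[1477,1183],[]),(4,[743,1456,1205],[1463,1122,1478,1223,1263,1261,1259,1257,1255]),(1,[1481],[]),(1,[1483,1254],[]),(2,[1154],[1156]),(1,[1486],[]),(1,[1489,1155],[]),(1,[1489,966],[]),(1,[1489,938],[]),(1,[776,1494],[]),(1,[1497],[])]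

theorem ok2 : data.stepsOK st2 500 = true := by decide +kernel

def st3 : List Step := [(1,[1499,975],[]),(2,[1186],[]),(2,[],[1474]),(2,[1118],[]),(2,[1192],[]),(2,[1198],[]),(10,[1197,1195,1508,1191,1189,1502,1109,1454,595,1452,689,686,20,1151,743,1456,1205,1484],[1511,1200]),(1,[1512],[]),(1,[1515,1485],[]),(0,[],[]),(0,[],[]),(0,[],[]),(0,[],[]),(0,[],[]),(0,[],[]),(0,[],[]),(0,[],[]),(0,[],[]),(0,[],[]),(6,[1159,1491,1492,1520,1522,1524,1526,1528,1530,1532,1534,1536],[1301,26,1303]),(0,[],[]),(0,[],[]),(0,[],[]),(0,[],[]),(0,[],[]),(0,[],[]),(0,[],[]),(0,[],[]),(0,[],[]),(0,[],[]),(0,[],[]),(8,[23,1151,1148,1114,1504,1518,1540,1542,1544,1546,1548,1550,1552,1554,1556,1558,1560],[1301,26]),(0,[],[]),(0,[],[]),(0,[],[]),(0,[],[]),(0,[],[]),(12,[1159,1273,1450,563,1564,1566,1568,1570,1572],[1301,26,1303,1539,1537,1535,1533,1531,1529,1527,1525,1523]),(0,[],[]),(0,[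],[]),(0,[],[]),(0,[],[]),(0,[],[]),(0,[],[]),(0,[],[]),(0,[],[]),(0,[],[]),(0,[],[]),(0,[],[]),(0,[],[]),(7,[1159,1273,740,1456,1205,1517,1201,1576,1578,1580,1582,1584,1586,1588,1590,1592,1594,1596,1598],[1301,26,1303,1539]),(0,[],[]),(3,[622,1116,1602],[26,1563]),(0,[],[]),(0,[],[]),(0,[],[]),(0,[],[]),(0,[],[]),(0,[],[]),(0,[],[]),(0,[],[]),(0,[],[]),(0,[],[]),(0,[],[]),(0,[],[]),(0,[],[]),(0,[],[]),(3,[30,32],[1539,1601,1599]),(0,[],[]),(0,[],[]),(0,[],[]),(0,[],[]),(0,[],[]),(0,[],[]),(0,[],[]),(0,[],[]),(0,[],[]),(0,[],[]),(0,[],[]),(0,[],[]),(0,[],[]),(0,[],[]),(6,[32,34,36,1652,1654,1656,1658,1660,1662],[1305,736,1324,391,1405,1406]),(0,[],[]),(0,[],[]),(0,[],[]),(0,[],[]),(0,[],[]),(0,[],[]),(0,[],[]),(4,[33,1046,735,1449,731,1672,1674,1676,1678],[1327,1640]),(0,[],[]),(0,[],[]),(0,[],[]),(0,[],[]),(0,[],[]),(0,[],[]),(0,[],[]),(6,[1634,1636,1638,1644,1646,1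682,1684,1686,1688,1690,1692,1694],[1327,1640,1681]),(0,[],[]),(0,[],[]),(0,[],[]),(0,[],[]),(0,[],[]),(0,[],[]),(0,[],[]),(0,[],[]),(8,[33,31,1302,27,1300,1159,1491,777,1500,1698,1700,1702,1704,1706,1708,1710,1712],[1327,1640]),(0,[],[]),(0,[],[]),(0,[],[]),(0,[],[]),(0,[],[]),(0,[],[]),(10,[33,31,1302,27,622,624,626,1614,1716,1718,1720,1722,1724,1726],[1327,1640,1681,1697,1695]),(0,[],[]),(0,[],[]),(0,[],[]),(0,[],[]),(0,[],[]),(0,[],[]),(5,[1634,1598,1600,1606,1608,1610,1612,1666,1668,1670,1730,1732,1734,1736,1738,1740],[1327,1640,1715,1713]),(0,[],[]),(0,[],[]),(0,[],[]),(0,[],[]),(0,[],[]),(0,[],[]),(0,[],[]),(0,[],[]),(0,[],[]),(0,[],[]),(0,[],[]),(21,[33,1046,736,704,392,421,1229,693,1744,1746,1748,1750,1752,1754,1756,1758,1760,1762,1764],[1327,1640,1681,1697,1695,1729]),(3,[36,38,40],[1640,1715]),(0,[],[]),(0,[],[]),(0,[],[]),(0,[],[]),(0,[],[]),(0,[],[]),(0,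[],[]),(5,[36,38,40,42,44,1648,1776,1778,1780,1782],[35,33,31,29,1563,1605,1603,1507,1120,1616]),(0,[],[]),(0,[],[]),(0,[],[]),(0,[],[]),(0,[],[]),(0,[],[]),(0,[],[]),(12,[36,38,1786,1788,1790,1792,1794,1796,1798],[35,33,1305,736,1324,391,1405,1406,1665,1663,1661,1659]),(0,[],[]),(0,[],[]),(15,[1640,1715,1769,42,1802,1804],[35,33,31,29,1563,1605,1603,1507,1120,1616,1785,1783,1781,1779,1777,1650]),(0,[],[]),(0,[],[]),(16,[36,38,40,42,1802,1804,1806,1651,1776,1808,1810],[35,33,31,29,27,622,1116,1507,1120,1616,1785]),(0,[],[]),(0,[],[]),(0,[],[]),(0,[],[]),(0,[],[]),(0,[],[]),(0,[],[]),(0,[],[]),(2,[1786],[]),(0,[],[]),(0,[],[]),(0,[],[]),(0,[],[]),(4,[39,1652,1654,1656,1801,1832,1834,1836,1838],[1831,1788]),(0,[],[]),(0,[],[]),(0,[],[]),(0,[],[]),(0,[],[]),(0,[],[]),(6,[40,42,44,46,48,50,1842,1844,1846,1848,1850,1852],[1831,1788,1841]),(0,[],[]),(0,[],[]),(0,[],[]),(0,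[],[]),(12,[40,1768,1770,1826,1856,1858,1860,1862],[1831,1788,1841,1855,1853,1851,1849,1847,1845,1843,51,49,1818]),(0,[],[]),(3,[48,1814,1816],[1818,1820,1822]),(1,[1869],[]),(1,[1871,1823],[]),(24,[390,392,421,1229,693,1744,1746,1748,1750,1752,1754,1756],[1405,1406,1665,1663,1661,1659,1657,1655,1653,38,40,1768,1713,1711]),(1,[1874],[]),(1,[1877,1758],[]),(4,[563,1564,1566,1568,1570,1572,1574],[1451,1272,1156,1492]),(8,[1120,1616,1618,1620,1622,1624,1626,1628,1630,1632],[1119,1117,623,25,1159,1156,1492,1881,1575]),(2,[1618],[1785]),(1,[1885],[]),(1,[1887,1813],[]),(1,[1621,1888],[]),(1,[1891],[]),(1,[1893,1811],[]),(2,[1632],[]),(2,[1642],[1681]),(1,[1899],[]),(1,[1901,1680],[]),(1,[1901,1697],[]),(1,[1825,1904],[]),(1,[1906],[]),(1,[1909,1825],[]),(4,[1715,1770,1772,1774,1828],[1903,1911,1695,1729,1767,1765,1763]),(1,[1912],[]),(1,[1915,1829],[]),(1,[1760,1916],[]),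(1,[1919],[]),(1,[1921,1775],[]),(1,[1878,1922],[]),(1,[1925],[]),(1,[1927,1773],[]),(1,[1711,1928],[]),(1,[1931],[]),(1,[1933,1826],[]),(1,[1742,1934],[]),(1,[1937],[]),(1,[1939,1856],[]),(2,[1776],[]),(2,[1940],[]),(2,[1790],[1841]),(1,[1947],[]),(1,[1949,1840],[]),(1,[1949,1855],[]),(1,[1867,1952],[]),(1,[1954],[]),(1,[1957,1867],[]),(2,[],[1865]),(2,[1860],[]),(0,[],[]),(0,[],[]),(0,[],[]),(12,[44,1648,1776,1808,1964,1966,1968],[43,41,1831,1788,1951,1959,1853,1851,1849,1847,1845,1843,52,1331]),(0,[],[]),(0,[],[]),(0,[],[]),(0,[],[]),(0,[],[]),(0,[],[]),(0,[],[]),(0,[],[]),(0,[],[]),(0,[],[]),(0,[],[]),(0,[],[]),(0,[],[]),(0,[],[])]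

theorem ok3 : data.stepsOK st3 750 = true := by decide +kernel

end

end Xb2
end HN
end H39
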